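import Cfsg.Agent.H26.PStabFusion
import Cfsg.Prelude.Def_FusionSystem
set_option linter.all false

-- part: H789/PStabOdd
section
/-!
# Control of strong fusion by `N_G(Z(J(P)))` in normalizer-`p`-stable groups, every odd `p` (helper789)

`final_odd` replaces `H26.PStab.final` (`p > 3`) for every odd prime: for `z` of order prime to `p` over `-1` one passes to
the subgroup `E = {w ∈ W : z w z⁻¹ w ∈ [W, W]}`. The rest is adapted from `H26.PStabCore`, `H26.PStabTransfer` and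
`H26.PStabFusion` (helper26).
-/

set_option autoImplicit false

namespace Cfsg.Agent.H789.PStabOdd

open Subgroup Cfsg
open scoped commutatorElement Pointwise Matrix
open Cfsg.Agent.PLocal
open Cfsg.Agent.PLocal.SL2Natural (mat mat_injective mat_mul mat_one)
open Cfsg.Agent.PLocal.QuadraticSection (quotientAction quotientAction_mk)
open Cfsg.Agent.Lib.GoldschmidtFusion
open Cfsg.Agent.Walter
open Cfsg.Agent.Walter.GlaubermanFusion (Good Ctrl exists_conj_le_sylow conj_mem_normalizer_ZJ good_of_good_proper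
  map_conj_le_iff card_sup_mul_card_inf card_mul_relIndex_of_le exists_of_pprime case_one)
open Cfsg.Agent.H26.PStab

section Quadratic

variable {G : Type*} [Group G]

/-- Quadratic action modulo a central subgroup `U`, centralised by `x` and `z`, `z` inverting `W / U`; `x` and `z` commute in
their action on `W`. -/
theorem quad_of_mod' {W U : Subgroup G} {x z : G}
    (hxz : ∀ v ∈ W, z * (x * v * x⁻¹) * z⁻¹ = x * (z * v * z⁻¹) * x⁻¹) (hUW : U ≤ W)
    (hU : ∀ u ∈ U, ∀ w ∈ W, Commute u w) (hxU : ∀ u ∈ U, Commute x u) (hzU : ∀ u ∈ U, Commute z u)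
    [Finite U] (hodd : Odd (Nat.card U)) (hxW : ∀ v ∈ W, x * v * x⁻¹ ∈ W)
    (hz : ∀ v ∈ W, ∃ c ∈ U, z * v * z⁻¹ = v⁻¹ * c)
    (hab : ∀ v ∈ W, ∀ w ∈ W, ∃ c ∈ U, v * w = w * v * c)
    (hx : ∀ v ∈ W, ∃ e ∈ U, x * (v⁻¹ * (x * v * x⁻¹)) * x⁻¹ = (v⁻¹ * (x * v * x⁻¹)) * e) :
    Quad W x := by
  intro v hv
  obtain ⟨c, hc, hzc⟩ := hz v hv
  -- a square root of `c`
  obtain ⟨d, hd, hdd⟩ : ∃ d ∈ U, d * d = c := by
    obtain ⟨m, hm⟩ := hodd
    refine ⟨c ^ (m + 1), U.pow_mem hc _, ?_⟩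
    rw [← pow_add, show m + 1 + (m + 1) = (2 * m + 1) + 1 by ring, ← hm, pow_succ]
    have : c ^ Nat.card U = 1 := by
      have h1 : (⟨c, hc⟩ : U) ^ Nat.card U = 1 := pow_card_eq_one'
      exact congrArg Subtype.val h1
    rw [this, one_mul]
  set q := v * d⁻¹ with hq
  have hqW : q ∈ W := W.mul_mem hv (hUW (U.inv_mem hd))
  have hdv : Commute d v := hU d hd v hv
  have hzd : Commute z d := hzU d hd
  have hzq : z * q * z⁻¹ = q⁻¹ := by
    have e1 : z * q * z⁻¹ = (z * v * z⁻¹) * (z * d⁻¹ * z⁻¹) := by rw [hq]; group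
    have e2 : z * d⁻¹ * z⁻¹ = d⁻¹ := by
      rw [(hzd.inv_right).eq, mul_inv_cancel_right]
    rw [e1, hzc, e2, ← hdd, hq, mul_inv_rev, inv_inv]
    have : v⁻¹ * (d * d) * d⁻¹ = v⁻¹ * d := by group
    rw [this]
    exact (hdv.inv_right).eq.symm
  set w := x * q * x⁻¹ with hw
  have hwW : w ∈ W := hxW q hqW
  have hzw : z * w * z⁻¹ = w⁻¹ := by
    have e1 : z * w * z⁻¹ = x * (z * q * z⁻¹) * x⁻¹ := hxz q hqW
    rw [e1, hzq, hw]
    group
  set k := q⁻¹ * w with hk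
  have hkv : v⁻¹ * (x * v * x⁻¹) = k := by
    have hxd : Commute x d := hxU d hd
    have e1 : x * q * x⁻¹ = (x * v * x⁻¹) * d⁻¹ := by
      rw [hq]
      have e2 : x * (v * d⁻¹) * x⁻¹ = (x * v * x⁻¹) * (x * d⁻¹ * x⁻¹) := by group
      rw [e2, (hxd.inv_right).eq, mul_inv_cancel_right]
    have hdw : Commute d (v⁻¹ * (x * v * x⁻¹)) :=
      hU d hd _ (W.mul_mem (W.inv_mem hv) (hxW v hv))
    rw [hk, hw, e1, hq, mul_inv_rev, inv_inv]
    have e3 : d * v⁻¹ * (x * v * x⁻¹ * d⁻¹) = d * (v⁻¹ * (x * v * x⁻¹)) * d⁻¹ := by group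
    rw [e3, hdw.eq, mul_inv_cancel_right]
  rw [hkv]
  obtain ⟨e, he, hxe⟩ := hx v hv
  rw [hkv] at hxe
  -- `z k z⁻¹ = k⁻¹ f`
  obtain ⟨f, hf, hqf⟩ := hab q hqW w⁻¹ (W.inv_mem hwW)
  have hkW : k ∈ W := W.mul_mem (W.inv_mem hqW) hwW
  have hzk : z * k * z⁻¹ = k⁻¹ * f := by
    have e1 : z * k * z⁻¹ = (z * q * z⁻¹)⁻¹ * (z * w * z⁻¹) := by rw [hk]; group
    rw [e1, hzq, hzw, inv_inv, hqf, hk]
    group
  have h1 : x * (z * k * z⁻¹) * x⁻¹ = z * (x * k * x⁻¹) * z⁻¹ := (hxz k hkW).symm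
  have hxf : x * f * x⁻¹ = f := by rw [(hxU f hf).eq, mul_inv_cancel_right]
  have h2 : x * (k⁻¹ * f) * x⁻¹ = (k * e)⁻¹ * f := by
    have e1 : x * (k⁻¹ * f) * x⁻¹ = (x * k * x⁻¹)⁻¹ * (x * f * x⁻¹) := by group
    rw [e1, hxe, hxf]
  have hze : z * e * z⁻¹ = e := by rw [(hzU e he).eq, mul_inv_cancel_right]
  have h3 : z * (k * e) * z⁻¹ = k⁻¹ * f * e := by
    have e1 : z * (k * e) * z⁻¹ = (z * k * z⁻¹) * (z * e * z⁻¹) := by group
    rw [e1, hzk, hze]
  rw [hzk, h2, hxe, h3] at h1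
  -- `e⁻¹ k⁻¹ f = k⁻¹ f e`
  have hek : Commute e k := hU e he k hkW
  have hef : Commute e f := hU e he f (hUW hf)
  have h4 : e * e = 1 := by
    rw [mul_inv_rev] at h1
    have e1 : e⁻¹ * k⁻¹ * f = k⁻¹ * f * e⁻¹ := by
      rw [(hek.inv_inv).eq, mul_assoc, (hef.inv_left).eq, mul_assoc]
    rw [e1] at h1
    have h5 : e⁻¹ = e := mul_left_cancel h1
    calc e * e = e⁻¹ * e := by rw [h5]
      _ = 1 := inv_mul_cancel e
  have h5 : e = 1 := by
    obtain ⟨m, hm⟩ := hodd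
    have h6 : e ^ Nat.card U = 1 := by
      have h1 : (⟨e, he⟩ : U) ^ Nat.card U = 1 := pow_card_eq_one'
      exact congrArg Subtype.val h1
    rw [hm, pow_succ, pow_mul, pow_two, h4, one_pow, one_mul] at h6
    exact h6
  rw [hxe, h5, mul_one]

/-- Commutators of a group generated by two elements and a central subgroup. -/
theorem comm_mem {W U Z : Subgroup G} (hUc : ∀ u ∈ U, ∀ w ∈ W, Commute u w)
    (hUW : U ≤ W) (hcomm : ∀ v ∈ W, ∀ w ∈ W, ⁅v, w⁆ ∈ U) {e₁ e₂ : G} (h₁ : e₁ ∈ W) (h₂ : e₂ ∈ W)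
    (hgen : W ≤ closure ({e₁, e₂} ∪ (U : Set G))) (hZ : ⁅e₁, e₂⁆ ∈ Z) :
    ∀ v ∈ W, ∀ w ∈ W, ⁅v, w⁆ ∈ Z := by
  have key : ∀ w ∈ W, ⁅e₁, w⁆ ∈ Z → ⁅e₂, w⁆ ∈ Z → ∀ v ∈ W, ⁅v, w⁆ ∈ Z := by
    intro w hw hw1 hw2
    let T : Subgroup G :=
      { carrier := {v | v ∈ W ∧ ⁅v, w⁆ ∈ Z}
        one_mem' := ⟨W.one_mem, by simp⟩
        mul_mem' := by
          rintro a b ⟨ha, ha'⟩ ⟨hb, hb'⟩
          refine ⟨W.mul_mem ha hb, ?_⟩
          have h3 : Commute ⁅b, w⁆ a := hUc _ (hcomm b hb w hw) a ha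
          have e : ⁅a * b, w⁆ = (a * ⁅b, w⁆ * a⁻¹) * ⁅a, w⁆ := by
            simp only [commutatorElement_def]; group
          rw [e, ← h3.eq, mul_inv_cancel_right]
          exact Z.mul_mem hb' ha'
        inv_mem' := by
          rintro a ⟨ha, ha'⟩
          refine ⟨W.inv_mem ha, ?_⟩
          have h3 : Commute ⁅a, w⁆⁻¹ a := (hUc _ (hcomm a ha w hw) a ha).inv_left
          have e : ⁅a⁻¹, w⁆ = a⁻¹ * (⁅a, w⁆⁻¹ * a) := by
            simp only [commutatorElement_def]; group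
          rw [e, h3.eq, inv_mul_cancel_left]
          exact Z.inv_mem ha' }
    have hT : W ≤ T := by
      refine hgen.trans ((closure_le _).2 ?_)
      rintro x (hx | hx)
      · rcases hx with rfl | rfl
        · exact ⟨h₁, hw1⟩
        · exact ⟨h₂, hw2⟩
      · refine ⟨hUW hx, ?_⟩
        rw [commutatorElement_eq_one_iff_commute.2 (hUc x hx w hw)]
        exact Z.one_mem
    intro v hv
    exact (hT hv).2
  have hinv : ∀ a b : G, ⁅a, b⁆ ∈ Z → ⁅b, a⁆ ∈ Z := by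
    intro a b h
    rw [← commutatorElement_inv]
    exact Z.inv_mem h
  have h11 : ⁅e₁, e₁⁆ ∈ Z := by rw [commutatorElement_self]; exact Z.one_mem
  have h22 : ⁅e₂, e₂⁆ ∈ Z := by rw [commutatorElement_self]; exact Z.one_mem
  have k1 := key e₁ h₁ h11 (hinv _ _ hZ)
  have k2 := key e₂ h₂ hZ h22
  intro v hv w hw
  exact key w hw (hinv _ _ (k1 w hw)) (hinv _ _ (k2 w hw)) v hv

end Quadratic

section Final

variable {G : Type*} [Group G] [Finite G] {p : ℕ} [hpf : Fact p.Prime]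

open Matrix
open Cfsg.Agent.PLocal.QuadraticNatural (upp low coe_upp coe_low upp_mul low_mul upp_pow upp_zero trace_eq_two)

/-- The elements `x`, `z` of a group mapping onto `SL(2, p)`, `p` odd. -/
theorem final_odd (hp : p ≠ 2) (hst : NStab p G) {W U K : Subgroup G} (hW : IsPGroup p W) (hUW : U ≤ W)
    (hUc : ∀ u ∈ U, ∀ w ∈ W, Commute u w) (φ : K →* SpecialLinearGroup (Fin 2) (ZMod p))
    (hφ : Function.Surjective φ)
    (hKU : ∀ k ∈ K, (orderOf k).Coprime p → ∀ u ∈ U, Commute k u)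
    (f : W →* Multiplicative (Fin 2 → ZMod p)) (hf : Function.Surjective f)
    (hker : ∀ w : W, f w = 1 → (w : G) ∈ U)
    (hact : ∀ (k : K) (w : W), ∃ h : (k : G) * w * (k : G)⁻¹ ∈ W,
      f ⟨_, h⟩ = Multiplicative.ofAdd (mat (φ k) *ᵥ Multiplicative.toAdd (f w))) : False := by
  have hpodd : Odd p := hpf.out.odd_of_ne_two hp
  choose hmem hfm using hact
  have hUp : IsPGroup p U := hW.to_le hUW
  have hUodd : Odd (Nat.card U) := odd_card_of_isPGroup hp hUp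
  have hmemU : ∀ v w : W, f v = f w → ∃ e ∈ U, (w : G) = v * e := by
    intro v w hvw
    refine ⟨(v : G)⁻¹ * w, ?_, by group⟩
    have h1 := hker (v⁻¹ * w) (by rw [map_mul, map_inv, hvw, inv_mul_cancel])
    simpa using h1
  -- `z`
  obtain ⟨z, hz, hzo⟩ := exists_lift (p := p) φ hφ (-1) (by
    obtain ⟨m, hm⟩ := hpodd
    have h1 : p - 1 = 2 * m := by omega
    rw [h1, pow_mul]; simp)
  have hzo' : (orderOf (z : G)).Coprime p := by rwa [Subgroup.orderOf_coe]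
  have hzU : ∀ u ∈ U, Commute (z : G) u := fun u hu => hKU z z.2 hzo' u hu
  have hfz : ∀ w : W, f ⟨_, hmem z w⟩ = (f w)⁻¹ := by
    intro w
    rw [hfm, hz]
    apply Multiplicative.toAdd.injective
    rw [toAdd_inv, toAdd_ofAdd]
    change ((-1 : SpecialLinearGroup (Fin 2) (ZMod p)) : Matrix (Fin 2) (Fin 2) (ZMod p)) *ᵥ _ = _
    rw [Matrix.SpecialLinearGroup.coe_neg, Matrix.SpecialLinearGroup.coe_one, Matrix.neg_mulVec,
      Matrix.one_mulVec]
  -- `f` is trivial on `U`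
  have hfU : ∀ (u : G) (hu : u ∈ U), f ⟨u, hUW hu⟩ = 1 := by
    intro u hu
    have h1 := hfz ⟨u, hUW hu⟩
    have h2 : (⟨_, hmem z ⟨u, hUW hu⟩⟩ : W) = ⟨u, hUW hu⟩ := by
      apply Subtype.ext
      change (z : G) * u * (z : G)⁻¹ = u
      rw [(hzU u hu).eq, mul_inv_cancel_right]
    rw [h2] at h1
    obtain ⟨a, ha⟩ : ∃ a, f ⟨u, hUW hu⟩ = Multiplicative.ofAdd a := ⟨Multiplicative.toAdd (f ⟨u, hUW hu⟩), rfl⟩
    rw [ha] at h1 ⊢
    have h3 : a = -a := Multiplicative.ofAdd.injective h1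
    have h2z : (2 : ZMod p) ≠ 0 := by
      intro h
      have h4 : ((2 : ℕ) : ZMod p) = 0 := by exact_mod_cast h
      rw [ZMod.natCast_eq_zero_iff] at h4
      exact hp ((Nat.prime_dvd_prime_iff_eq hpf.out Nat.prime_two).1 h4)
    have h5 : a = 0 := by
      funext i
      have h6 := congrFun h3 i
      simp only [Pi.neg_apply] at h6
      have h7 : (2 : ZMod p) * a i = 0 := by linear_combination h6
      simpa [h2z] using h7
    rw [h5]; rfl
  have hcomm : ∀ v ∈ W, ∀ w ∈ W, ⁅v, w⁆ ∈ U := by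
    intro v hv w hw
    have h1 := hker ⁅(⟨v, hv⟩ : W), ⟨w, hw⟩⁆ (by
      rw [map_commutatorElement, commutatorElement_eq_one_iff_mul_comm, mul_comm])
    exact h1
  -- `p'`-elements of the kernel act trivially
  have hkerp : ∀ k : K, φ k = 1 → (orderOf k).Coprime p → ∀ w ∈ W, Commute (k : G) w := by
    intro k hk hko w hw
    have hko' : (orderOf (k : G)).Coprime p := by rwa [Subgroup.orderOf_coe]
    have h1 : f ⟨_, hmem k ⟨w, hw⟩⟩ = f ⟨w, hw⟩ := by
      rw [hfm, hk]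
      apply Multiplicative.toAdd.injective
      rw [toAdd_ofAdd, mat_one, Matrix.one_mulVec]
    obtain ⟨e, he, hke⟩ := hmemU _ _ h1
    have h2 : ⁅w, (k : G)⁆ = e := by
      have h3 : w = (k : G) * w * (k : G)⁻¹ * e := hke
      rw [commutatorElement_def]
      have hec : Commute e ((k : G) * w * (k : G)⁻¹) := hUc e he _ (hmem k ⟨w, hw⟩)
      calc w * k * w⁻¹ * (k : G)⁻¹ = w * ((k : G) * w * (k : G)⁻¹)⁻¹ := by group
        _ = ((k : G) * w * (k : G)⁻¹ * e) * ((k : G) * w * (k : G)⁻¹)⁻¹ := by rw [← h3]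
        _ = e := by rw [← hec.eq, mul_inv_cancel_right]
    refine (Lib.CoprimeStab.commute_of_commutator_commute (H := U) (coprime_orderOf_card hUp hko') ?_ ?_).symm
    · rw [h2]; exact he
    · rw [h2]; exact (hKU k k.2 hko' e he).symm
  have hkerpow : ∀ k : K, φ k = 1 → ∃ j : ℕ, ∀ w ∈ W, Commute ((k : G) ^ p ^ j) w := by
    intro k hk
    obtain ⟨j, m, hm, hkm⟩ := Nat.exists_eq_pow_mul_and_not_dvd (orderOf_pos k).ne' p
      hpf.out.one_lt.ne'
    refine ⟨j, fun w hw => ?_⟩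
    have h1 := hkerp (k ^ p ^ j) (by rw [map_pow, hk, one_pow]) (by
      rw [orderOf_pow_of_dvd (pow_ne_zero _ hpf.out.ne_zero)
        (by rw [hkm]; exact Dvd.intro _ rfl), hkm, Nat.mul_div_cancel_left _ (pow_pos hpf.out.pos _)]
      exact ((Nat.Prime.coprime_iff_not_dvd hpf.out).2 hm).symm) w hw
    simpa using h1
  have hnorm : ∀ k : K, (k : G) ∈ normalizer (W : Set G) := by
    intro k
    rw [Cfsg.Agent.Lib.GoldschmidtFusion.mem_normalizer_iff_map_conj]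
    apply Cfsg.Agent.Lib.GoldschmidtFusion.map_conj_le_of_le_normalizer
    rintro _ ⟨w, hw, rfl⟩
    exact hmem k ⟨w, hw⟩
  have hKN : K ≤ normalizer (W : Set G) := fun k hk => hnorm ⟨k, hk⟩
  -- the action on `W`
  let α : K →* MulAut W := W.normalizerMonoidHom.comp (Subgroup.inclusion hKN)
  have hα : ∀ (k : K) (v : W), ((α k v : W) : G) = k * v * (k : G)⁻¹ := fun _ _ => rfl
  have hα1 : ∀ k : K, (∀ w ∈ W, Commute (k : G) w) → α k = 1 := by
    intro k hk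
    ext w
    rw [hα, (hk w w.2).eq, mul_inv_cancel_right]
    rfl
  have hαz : α z * α z = 1 := by
    rw [← map_mul]
    apply hα1
    intro w hw
    refine hkerp (z * z) (by rw [map_mul, hz]; simp) ?_ w hw
    have h1 : orderOf (z * z) ∣ orderOf z := by rw [← pow_two]; exact orderOf_pow_dvd 2
    exact Nat.Coprime.coprime_dvd_left h1 hzo
  -- lifting elements so that they commute with `z` on `W`
  have hlift : ∀ s : SpecialLinearGroup (Fin 2) (ZMod p), ∃ k : K, φ k = s ∧ α k * α z = α z * α k := by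
    intro s
    obtain ⟨k, hk⟩ := hφ s
    set z' : K := k * z * k⁻¹ with hz'
    have hφz' : φ (z * z') = 1 := by
      rw [map_mul, hz', map_mul, map_mul, map_inv, hz, hk]
      simp
    have hαz' : α z' * α z' = 1 := by
      have e : z' * z' = k * (z * z) * k⁻¹ := by rw [hz']; group
      rw [← map_mul, e, map_mul, map_mul, map_mul, hαz, mul_one, map_inv, mul_inv_cancel]
    obtain ⟨j, hj⟩ := hkerpow (z * z') hφz'
    have hd : α (z * z') ^ p ^ j = 1 := by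
      rw [← map_pow]
      apply hα1
      intro w hw
      simpa using hj w hw
    obtain ⟨m, hm⟩ : ∃ m, p ^ j = 2 * m + 1 := hpodd.pow
    refine ⟨(z * z') ^ (m + 1) * k, by rw [map_mul, map_pow, hφz', one_pow, one_mul, hk], ?_⟩
    set d := α (z * z') with hddef
    have hzd : α z * d * (α z) = d⁻¹ := by
      rw [eq_inv_iff_mul_eq_one, hddef, map_mul]
      calc α z * (α z * α z') * α z * (α z * α z') = (α z * α z) * α z' * (α z * α z) * α z' := by
            simp only [mul_assoc]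
        _ = 1 := by rw [hαz, one_mul, mul_one, hαz']
    have hzinv : (α z)⁻¹ = α z := inv_eq_of_mul_eq_one_left hαz
    set e := d ^ (m + 1) with hedef
    have hee : e * e = d := by
      rw [hedef, ← pow_add, show m + 1 + (m + 1) = (2 * m + 1) + 1 by ring, ← hm, pow_succ, hd, one_mul]
    have hze : α z * e * α z = e⁻¹ := by
      have h1 : α z * e * (α z)⁻¹ = e⁻¹ := by
        rw [hedef, ← conj_pow, hzinv, hzd, inv_pow]
      rwa [hzinv] at h1
    have hkz : α k * α z = α z' * α k := by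
      rw [← map_mul, ← map_mul, hz']
      congr 1
      group
    have hzz' : α z' = α z * d := by
      have h1 : d = α z * α z' := map_mul α z z'
      rw [h1, ← mul_assoc, hαz, one_mul]
    have hez : e * α z' = α z * e := by
      rw [hzz', ← hee]
      have h2 : e * (α z * (e * e)) = e * (α z * e * α z) * (α z * e) := by
        rw [show e * (α z * e * α z) * (α z * e) = e * (α z * e * (α z * α z) * e) by simp only [mul_assoc],
          hαz, mul_one]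
        simp only [mul_assoc]
      rw [h2, hze, mul_inv_cancel, one_mul]
    have h3 : α ((z * z') ^ (m + 1) * k) = e * α k := by rw [map_mul, map_pow]
    rw [h3, mul_assoc, hkz, ← mul_assoc, hez, mul_assoc]
  have hcomz : ∀ k : K, α k * α z = α z * α k → ∀ v ∈ W,
      (z : G) * ((k : G) * v * (k : G)⁻¹) * (z : G)⁻¹ = (k : G) * ((z : G) * v * (z : G)⁻¹) * (k : G)⁻¹ := by
    intro k hk v hv
    have h1 : ((α k * α z) ⟨v, hv⟩ : W) = (α z * α k) ⟨v, hv⟩ := by rw [hk]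
    exact (congrArg Subtype.val h1).symm
  obtain ⟨x, hφx, hxz⟩ := hlift (upp 1)
  -- the commutator subgroup
  set C := ⁅W, W⁆ with hC
  have hCU : C ≤ U := by
    rw [hC, commutator_le]
    exact hcomm
  have hCW : C ≤ W := hCU.trans hUW
  have hCc : ∀ v ∈ W, ∀ w ∈ W, ⁅v, w⁆ ∈ C := fun v hv w hw => commutator_mem_commutator hv hw
  have hCodd : Odd (Nat.card C) := odd_card_of_isPGroup hp (hW.to_le hCW)
  have hkC : ∀ k : K, ∀ c ∈ C, (k : G) * c * (k : G)⁻¹ ∈ C := by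
    intro k c hc
    have h1 : C.map (MulAut.conj (k : G)).toMonoidHom ≤ C := by
      rw [hC, map_commutator]
      have h2 : W.map (MulAut.conj (k : G)).toMonoidHom ≤ W := by
        rintro _ ⟨w, hw, rfl⟩
        exact hmem k ⟨w, hw⟩
      exact commutator_mono h2 h2
    exact h1 ⟨c, hc, rfl⟩
  -- square roots
  have hroot : ∀ V : Subgroup G, Odd (Nat.card V) → ∀ c ∈ V, ∃ d ∈ V, d * d = c := by
    intro V hV c hc
    obtain ⟨m, hm⟩ := hV
    refine ⟨c ^ (m + 1), V.pow_mem hc _, ?_⟩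
    rw [← pow_add, show m + 1 + (m + 1) = (2 * m + 1) + 1 by ring, ← hm, pow_succ]
    have : c ^ Nat.card V = 1 := by
      have h1 : (⟨c, hc⟩ : V) ^ Nat.card V = 1 := pow_card_eq_one'
      exact congrArg Subtype.val h1
    rw [this, one_mul]
  -- `x` centralizes `C`
  have hxC : ∀ c ∈ C, Commute (x : G) c := by
    obtain ⟨e₁, he₁⟩ := hf (Multiplicative.ofAdd (Pi.single 0 1))
    obtain ⟨e₂, he₂⟩ := hf (Multiplicative.ofAdd (Pi.single 1 1))
    have hgen : W ≤ closure ({(e₁ : G), (e₂ : G)} ∪ (U : Set G)) := by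
      intro w hw
      obtain ⟨a, ha⟩ : ∃ a, f ⟨w, hw⟩ = Multiplicative.ofAdd a := ⟨Multiplicative.toAdd (f ⟨w, hw⟩), rfl⟩
      have h1 : f (e₁ ^ (a 0).val * e₂ ^ (a 1).val) = f ⟨w, hw⟩ := by
        rw [map_mul, map_pow, map_pow, he₁, he₂, ha]
        apply Multiplicative.toAdd.injective
        rw [toAdd_mul, toAdd_pow, toAdd_pow, toAdd_ofAdd, toAdd_ofAdd, toAdd_ofAdd]
        funext i
        fin_cases i
        · change (a 0).val • (Pi.single (0 : Fin 2) (1 : ZMod p) : Fin 2 → ZMod p) 0 +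
            (a 1).val • (Pi.single (1 : Fin 2) (1 : ZMod p) : Fin 2 → ZMod p) 0 = a 0
          simp
        · change (a 0).val • (Pi.single (0 : Fin 2) (1 : ZMod p) : Fin 2 → ZMod p) 1 +
            (a 1).val • (Pi.single (1 : Fin 2) (1 : ZMod p) : Fin 2 → ZMod p) 1 = a 1
          simp
      obtain ⟨e, he, hwe⟩ := hmemU _ _ h1
      have h2 : w = (e₁ : G) ^ (a 0).val * (e₂ : G) ^ (a 1).val * e := hwe
      rw [h2]
      refine mul_mem (mul_mem (pow_mem (subset_closure (by simp)) _) (pow_mem (subset_closure (by simp)) _))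
        (subset_closure (Or.inr he))
    have hfe₁ : f ⟨_, hmem x e₁⟩ = f e₁ := by
      rw [hfm, he₁, hφx]
      apply Multiplicative.toAdd.injective
      rw [toAdd_ofAdd, toAdd_ofAdd]
      change (upp (1 : ZMod p)).1 *ᵥ _ = _
      rw [show (upp (1 : ZMod p)).1 = _ from coe_upp 1]
      ext i
      fin_cases i <;> simp [Matrix.mulVec, dotProduct, Fin.sum_univ_two]
    have hfe₂ : f ⟨_, hmem x e₂⟩ = f (e₁ * e₂) := by
      rw [hfm, map_mul, he₁, he₂, hφx]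
      apply Multiplicative.toAdd.injective
      rw [toAdd_ofAdd, toAdd_mul, toAdd_ofAdd, toAdd_ofAdd]
      change (upp (1 : ZMod p)).1 *ᵥ _ = _
      rw [show (upp (1 : ZMod p)).1 = _ from coe_upp 1]
      ext i
      fin_cases i <;> simp [Matrix.mulVec, dotProduct, Fin.sum_univ_two]
    obtain ⟨u₁, hu₁, hx₁⟩ := hmemU _ _ hfe₁.symm
    obtain ⟨u₂, hu₂, hx₂⟩ := hmemU _ _ hfe₂.symm
    have hx₁' : (x : G) * e₁ * (x : G)⁻¹ = e₁ * u₁ := hx₁
    have hx₂' : (x : G) * e₂ * (x : G)⁻¹ = e₁ * e₂ * u₂ := hx₂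
    have hκ : (x : G) * ⁅(e₁ : G), (e₂ : G)⁆ * (x : G)⁻¹ = ⁅(e₁ : G), (e₂ : G)⁆ := by
      have h1 : (x : G) * ⁅(e₁ : G), (e₂ : G)⁆ * (x : G)⁻¹ =
          ⁅(x : G) * e₁ * (x : G)⁻¹, (x : G) * e₂ * (x : G)⁻¹⁆ := by
        simp only [commutatorElement_def]; group
      rw [h1, hx₁', hx₂']
      have hu₁e₁ : Commute u₁ (e₁ : G) := hUc u₁ hu₁ e₁ e₁.2
      have hu₁e₂ : Commute u₁ (e₂ : G) := hUc u₁ hu₁ e₂ e₂.2
      have hu₂e₁ : Commute u₂ (e₁ : G) := hUc u₂ hu₂ e₁ e₁.2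
      have hu₂e₂ : Commute u₂ (e₂ : G) := hUc u₂ hu₂ e₂ e₂.2
      have hu₁u₂ : Commute u₁ u₂ := hUc u₁ hu₁ u₂ (hUW hu₂)
      rw [commutatorElement_def]
      have a1 : (e₁ : G) * u₁ * (e₁ * e₂ * u₂) = (e₁ * (e₁ * e₂)) * (u₁ * u₂) := by
        have : u₁ * ((e₁ : G) * e₂ * u₂) = ((e₁ : G) * e₂) * (u₁ * u₂) := by
          rw [← mul_assoc, (hu₁e₁.mul_right hu₁e₂).eq, mul_assoc]
        rw [mul_assoc, this]; group
      have a2 : (e₁ : G) * e₂ * u₂ * (e₁ * u₁) = ((e₁ * e₂) * e₁) * (u₁ * u₂) := by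
        have : u₂ * ((e₁ : G) * u₁) = (e₁ : G) * (u₁ * u₂) := by
          rw [← mul_assoc, hu₂e₁.eq, mul_assoc, hu₁u₂.eq]
        rw [mul_assoc, this]; group
      have a3 : (e₁ : G) * u₁ * (e₁ * e₂ * u₂) * (e₁ * u₁)⁻¹ * (e₁ * e₂ * u₂)⁻¹ =
          ((e₁ : G) * u₁ * (e₁ * e₂ * u₂)) * ((e₁ * e₂ * u₂) * (e₁ * u₁))⁻¹ := by group
      have h5 : Commute ⁅(e₁ : G), (e₂ : G)⁆ (e₁ : G) := hUc _ (hcomm e₁ e₁.2 e₂ e₂.2) e₁ e₁.2
      have a4 : (e₁ : G) * (e₁ * e₂) * (u₁ * u₂) * ((e₁ : G) * e₂ * e₁ * (u₁ * u₂))⁻¹ =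
          (e₁ : G) * ⁅(e₁ : G), (e₂ : G)⁆ * (e₁ : G)⁻¹ := by
        rw [commutatorElement_def]; group
      rw [a3, a1, a2, a4, ← h5.eq, mul_inv_cancel_right]
    have hZ : ∀ v ∈ W, ∀ w ∈ W, ⁅v, w⁆ ∈ zpowers ⁅(e₁ : G), (e₂ : G)⁆ :=
      comm_mem hUc hUW hcomm e₁.2 e₂.2 hgen (mem_zpowers _)
    intro c hc
    have hle : C ≤ zpowers ⁅(e₁ : G), (e₂ : G)⁆ := by
      rw [hC, commutator_le]
      exact hZ
    obtain ⟨n, rfl⟩ := hle hc
    have h2 : Commute (x : G) ⁅(e₁ : G), (e₂ : G)⁆ := mul_inv_eq_iff_eq_mul.1 hκ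
    exact h2.zpow_right n
  -- the subgroup `E`
  let E : Subgroup G :=
    { carrier := {w | w ∈ W ∧ (z : G) * w * (z : G)⁻¹ * w ∈ C}
      one_mem' := ⟨W.one_mem, by simp⟩
      mul_mem' := by
        rintro a b ⟨ha, ha'⟩ ⟨hb, hb'⟩
        refine ⟨W.mul_mem ha hb, ?_⟩
        have hab : ⁅b⁻¹, a⁻¹⁆ ∈ C := hCc _ (W.inv_mem hb) _ (W.inv_mem ha)
        have hcb : Commute ((z : G) * b * (z : G)⁻¹ * b) a := hUc _ (hCU hb') a ha
        have e1 : (z : G) * (a * b) * (z : G)⁻¹ * (a * b) =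
            ((z : G) * a * (z : G)⁻¹) * (((z : G) * b * (z : G)⁻¹ * b) * a) * ⁅a⁻¹, b⁻¹⁆ := by
          simp only [commutatorElement_def]; group
        rw [e1, hcb.eq]
        have e2 : (z : G) * a * (z : G)⁻¹ * (a * ((z : G) * b * (z : G)⁻¹ * b)) * ⁅a⁻¹, b⁻¹⁆ =
            ((z : G) * a * (z : G)⁻¹ * a) * ((z : G) * b * (z : G)⁻¹ * b) * ⁅a⁻¹, b⁻¹⁆ := by group
        rw [e2]
        exact C.mul_mem (C.mul_mem ha' hb') (hCc _ (W.inv_mem ha) _ (W.inv_mem hb))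
      inv_mem' := by
        rintro a ⟨ha, ha'⟩
        refine ⟨W.inv_mem ha, ?_⟩
        have hca : Commute ((z : G) * a * (z : G)⁻¹ * a) a := hUc _ (hCU ha') a ha
        have e1 : (z : G) * a⁻¹ * (z : G)⁻¹ * a⁻¹ = (a * ((z : G) * a * (z : G)⁻¹ * a) * a⁻¹)⁻¹ := by group
        rw [e1, ← hca.eq, mul_inv_cancel_right]
        exact C.inv_mem ha' }
  have hE : ∀ w, w ∈ E ↔ w ∈ W ∧ (z : G) * w * (z : G)⁻¹ * w ∈ C := fun _ => Iff.rfl
  have hEW : E ≤ W := fun w hw => hw.1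
  have hCE : C ≤ E := by
    intro c hc
    refine ⟨hCW hc, ?_⟩
    rw [(hzU c (hCU hc)).eq, mul_inv_cancel_right]
    exact C.mul_mem hc hc
  have hEU : E ⊓ U ≤ C := by
    rintro v ⟨⟨hvW, hv⟩, hvU⟩
    rw [(hzU v hvU).eq, mul_inv_cancel_right] at hv
    obtain ⟨m, hm⟩ := hUodd
    have h6 : v ^ Nat.card U = 1 := by
      have h1 : (⟨v, hvU⟩ : U) ^ Nat.card U = 1 := pow_card_eq_one'
      exact congrArg Subtype.val h1
    rw [hm] at h6
    have h7 : v = (v * v) ^ (m + 1) := by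
      rw [← pow_two, ← pow_mul, show 2 * (m + 1) = (2 * m + 1) + 1 by ring, pow_succ, h6, one_mul]
    rw [h7]
    exact C.pow_mem hv _
  have hnormE : ∀ k : K, α k * α z = α z * α k → ∀ v ∈ E, (k : G) * v * (k : G)⁻¹ ∈ E := by
    intro k hk v hv
    refine ⟨hmem k ⟨v, hv.1⟩, ?_⟩
    rw [hcomz k hk v hv.1]
    have e1 : (k : G) * ((z : G) * v * (z : G)⁻¹) * (k : G)⁻¹ * ((k : G) * v * (k : G)⁻¹) =
        (k : G) * ((z : G) * v * (z : G)⁻¹ * v) * (k : G)⁻¹ := by group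
    rw [e1]
    exact hkC k _ hv.2
  have hquad : Quad E (x : G) := by
    refine quad_of_mod' (U := C) (z := (z : G)) (fun v hv => hcomz x hxz v hv.1) hCE
      (fun u hu w hw => hUc u (hCU hu) w hw.1) hxC (fun u hu => hzU u (hCU hu)) hCodd (hnormE x hxz) ?_ ?_ ?_
    · intro v hv
      refine ⟨v * ((z : G) * v * (z : G)⁻¹), ?_, by group⟩
      have h1 : Commute ((z : G) * v * (z : G)⁻¹ * v) v := hUc _ (hCU hv.2) v hv.1
      have e1 : v * ((z : G) * v * (z : G)⁻¹) = v * ((z : G) * v * (z : G)⁻¹ * v) * v⁻¹ := by group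
      rw [e1, ← h1.eq, mul_inv_cancel_right]
      exact hv.2
    · intro v hv w hw
      refine ⟨⁅v⁻¹, w⁻¹⁆, hCc _ (W.inv_mem hv.1) _ (W.inv_mem hw.1), ?_⟩
      have h1 : Commute ⁅v⁻¹, w⁻¹⁆ (w * v) :=
        hUc _ (hcomm _ (W.inv_mem hv.1) _ (W.inv_mem hw.1)) _ (W.mul_mem hw.1 hv.1)
      rw [← h1.eq, h1.eq]
      simp only [commutatorElement_def]; group
    · intro v hv
      set v' : W := ⟨v, hv.1⟩ with hv'
      set w' : W := v'⁻¹ * ⟨_, hmem x v'⟩ with hw'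
      obtain ⟨e, he, hve⟩ := hmemU w' ⟨_, hmem x w'⟩ (by
        rw [hfm, hw', map_mul, map_inv, hfm, hφx]
        apply Multiplicative.toAdd.injective
        rw [toAdd_mul, toAdd_inv, toAdd_ofAdd, toAdd_ofAdd]
        have h5 := Cfsg.Agent.PLocal.QuadraticNatural.quadratic_mulVec (upp (1 : ZMod p))
          (by rw [show (upp (1 : ZMod p)).1 = _ from coe_upp 1]; simp; norm_num)
          (Multiplicative.toAdd (f v'))
        rw [sub_eq_neg_add] at h5
        exact h5.symm)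
      have hwE : (w' : G) ∈ E := E.mul_mem (E.inv_mem hv) (hnormE x hxz v hv)
      have hxwE := hnormE x hxz _ hwE
      refine ⟨e, hEU ⟨?_, he⟩, hve⟩
      have h3 : e = (w' : G)⁻¹ * ((x : G) * w' * (x : G)⁻¹) := by
        have h4 : (x : G) * w' * (x : G)⁻¹ = w' * e := hve
        rw [h4, inv_mul_cancel_left]
      rw [h3]
      exact E.mul_mem (E.inv_mem hwE) hxwE
  -- a conjugate
  have hW₀ : (!![0, 1; -1, 0] : Matrix (Fin 2) (Fin 2) (ZMod p)).det = 1 := by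
    rw [Matrix.det_fin_two_of]; ring
  obtain ⟨w₀, hw₀⟩ : ∃ w₀ : SpecialLinearGroup (Fin 2) (ZMod p),
      (w₀ : Matrix (Fin 2) (Fin 2) (ZMod p)) = !![0, 1; -1, 0] := ⟨⟨_, hW₀⟩, rfl⟩
  obtain ⟨k₀, hk₀, hk₀z⟩ := hlift w₀
  have hnormE' : ∀ k : K, α k * α z = α z * α k → (k : G) ∈ normalizer (E : Set G) := by
    intro k hk
    rw [Cfsg.Agent.Lib.GoldschmidtFusion.mem_normalizer_iff_map_conj]
    apply Cfsg.Agent.Lib.GoldschmidtFusion.map_conj_le_of_le_normalizer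
    rintro _ ⟨w, hw, rfl⟩
    exact hnormE k hk w hw
  obtain ⟨n, hn⟩ := hst E (hW.to_le hEW) x (hnormE' x hxz) hquad k₀ (hnormE' k₀ hk₀z)
    ((x : G) * (k₀ * x * (k₀ : G)⁻¹))
    (mul_mem (subset_closure (by simp)) (subset_closure (by simp)))
  set y : K := x * (k₀ * x * k₀⁻¹) with hy
  have hyW : ((y : G)) ^ p ^ n ∈ centralizer (E : Set G) := hn
  have hfE : ∀ a, ∃ w : W, (w : G) ∈ E ∧ f w = a := by
    intro a
    obtain ⟨w, hw⟩ := hf a
    have ht : (z : G) * w * (z : G)⁻¹ * w ∈ U := by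
      have h1 := hker (⟨_, hmem z w⟩ * w) (by rw [map_mul, hfz, inv_mul_cancel])
      exact h1
    obtain ⟨d, hd, hdd⟩ := hroot U hUodd _ (U.inv_mem ht)
    refine ⟨w * ⟨d, hUW hd⟩, ⟨W.mul_mem w.2 (hUW hd), ?_⟩, by rw [map_mul, hfU d hd, mul_one, hw]⟩
    have hzd : (z : G) * d * (z : G)⁻¹ = d := by rw [(hzU d hd).eq, mul_inv_cancel_right]
    have hdw : Commute d (w : G) := hUc d hd w w.2
    have e1 : (z : G) * ((w : G) * d) * (z : G)⁻¹ * ((w : G) * d) =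
        ((z : G) * w * (z : G)⁻¹) * ((z : G) * d * (z : G)⁻¹) * ((w : G) * d) := by group
    change (z : G) * ((w : G) * d) * (z : G)⁻¹ * ((w : G) * d) ∈ C
    rw [e1, hzd]
    have e2 : (z : G) * w * (z : G)⁻¹ * d * (w * d) = ((z : G) * w * (z : G)⁻¹) * ((d * w) * d) := by group
    rw [e2, hdw.eq]
    have e3 : (z : G) * w * (z : G)⁻¹ * ((w : G) * d * d) = ((z : G) * w * (z : G)⁻¹ * w) * (d * d) := by group
    rw [e3, hdd, mul_inv_cancel]
    exact C.one_mem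
  have hφy : φ y ^ p ^ n = 1 := by
    rw [← map_pow]
    apply mat_injective
    apply Matrix.ext_of_mulVec_single
    intro i
    rw [mat_one, Matrix.one_mulVec]
    obtain ⟨w, hwE, hw⟩ := hfE (Multiplicative.ofAdd (Pi.single i 1))
    have h1 := hfm (y ^ p ^ n) w
    have h2 : (⟨_, hmem (y ^ p ^ n) w⟩ : W) = w := by
      apply Subtype.ext
      change ((y : G)) ^ p ^ n * w * (((y : G)) ^ p ^ n)⁻¹ = w
      rw [mul_inv_eq_iff_eq_mul]
      exact (mem_centralizer_iff.1 hyW w hwE).symm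
    rw [h2, hw, toAdd_ofAdd] at h1
    exact (Multiplicative.ofAdd.injective h1).symm
  have htr := trace_eq_two (φ y) n hφy
  have h3 : φ k₀ * upp 1 * (φ k₀)⁻¹ = low (-1) := by
    rw [mul_inv_eq_iff_eq_mul, hk₀]
    apply Subtype.ext
    rw [Matrix.SpecialLinearGroup.coe_mul, Matrix.SpecialLinearGroup.coe_mul, coe_upp, coe_low, hw₀]
    ext i j
    fin_cases i <;> fin_cases j <;> simp
  have h4 : φ y = upp 1 * low (-1) := by
    rw [hy, map_mul, map_mul, map_mul, map_inv, hφx, h3]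
  rw [h4] at htr
  have h5 : (upp (1 : ZMod p) * low (-1)).1 = !![0, 1; -1, 1] := by
    rw [Matrix.SpecialLinearGroup.coe_mul, coe_upp, coe_low]
    ext i j
    fin_cases i <;> fin_cases j <;> simp
  rw [h5] at htr
  have h6 : (1 : ZMod p) = 0 := by
    have h7 : (0 : ZMod p) + 1 = 2 := by simpa using htr
    linear_combination -h7
  exact one_ne_zero h6

end Final

section Core

variable {G : Type*} [Group G] [Finite G] {p : ℕ} [hpf : Fact p.Prime]

/-- **Core lemma.** -/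
theorem core (hp : p ≠ 2) (hst : NStab p G) {R D : Subgroup G} (hR : IsPGroup p R) {a b : G}
    (haR : a ∈ normalizer (R : Set G)) (hbR : b ∈ normalizer (R : Set G))
    (hD : ∀ k ∈ closure ({a, b} : Set G), (orderOf k).Coprime p → ∀ d ∈ D, Commute k d)
    (hqa : ∀ v ∈ R, ∃ e ∈ D, a * (v⁻¹ * (a * v * a⁻¹)) * a⁻¹ = (v⁻¹ * (a * v * a⁻¹)) * e)
    (hqb : ∀ v ∈ R, ∃ e ∈ D, b * (v⁻¹ * (b * v * b⁻¹)) * b⁻¹ = (v⁻¹ * (b * v * b⁻¹)) * e) :
    ∀ k ∈ closure ({a, b} : Set G), ∃ n : ℕ, k ^ p ^ n ∈ centralizer (R : Set G) := by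
  set L := closure ({a, b} : Set G) with hL
  have haL : a ∈ L := subset_closure (by simp)
  have hbL : b ∈ L := subset_closure (by simp)
  have hLR : L ≤ normalizer (R : Set G) := by
    rw [hL, closure_le]
    rintro x (rfl | rfl)
    · exact haR
    · exact hbR
  by_contra hcon
  push Not at hcon
  obtain ⟨k₀, hk₀L, hk₀⟩ := hcon
  let Bad : Subgroup G → Prop := fun Q => Q ≤ R ∧ (∀ l ∈ L, ∀ v ∈ Q, l * v * l⁻¹ ∈ Q) ∧
    ∃ k ∈ L, (orderOf k).Coprime p ∧ ∃ v ∈ Q, ¬ Commute k v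
  have hBadR : Bad R := by
    refine ⟨le_rfl, fun l hl v hv => ?_, ?_⟩
    · exact (mem_normalizer_iff.1 (hLR hl) v).1 hv
    · obtain ⟨j, m, hm, hkm⟩ := Nat.exists_eq_pow_mul_and_not_dvd (orderOf_pos k₀).ne' p
        hpf.out.one_lt.ne'
      refine ⟨k₀ ^ p ^ j, L.pow_mem hk₀L _, ?_, ?_⟩
      · rw [orderOf_pow_of_dvd (pow_ne_zero _ hpf.out.ne_zero)
          (by rw [hkm]; exact Dvd.intro _ rfl), hkm, Nat.mul_div_cancel_left _ (pow_pos hpf.out.pos _)]
        exact ((Nat.Prime.coprime_iff_not_dvd hpf.out).2 hm).symm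
      · by_contra hc
        push Not at hc
        apply hk₀ j
        rw [mem_centralizer_iff]
        intro v hv
        exact (hc v hv).eq.symm
  obtain ⟨Q, ⟨hQR, hQL, k₁, hk₁L, hk₁o, v₁, hv₁, hk₁v⟩, hmin⟩ :=
    exists_minimal_of_wellFoundedLT Bad ⟨R, hBadR⟩
  have hQp : IsPGroup p Q := hR.to_le hQR
  set M : Set G := {k | k ∈ L ∧ (orderOf k).Coprime p} with hM
  set U : Subgroup G := Q ⊓ centralizer M with hU
  have hUQ : U ≤ Q := inf_le_left
  have hUM : ∀ k ∈ L, (orderOf k).Coprime p → ∀ u ∈ U, Commute k u := by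
    intro k hk hko u hu
    exact (mem_centralizer_iff.1 hu.2) k ⟨hk, hko⟩
  have hUL : ∀ l ∈ L, ∀ u ∈ U, l * u * l⁻¹ ∈ U := by
    intro l hl u hu
    refine ⟨hQL l hl u hu.1, ?_⟩
    change l * u * l⁻¹ ∈ centralizer M
    rw [mem_centralizer_iff]
    rintro k ⟨hk, hko⟩
    have h1 : Commute (l⁻¹ * k * l⁻¹⁻¹) u := hUM _ (mul_mem (mul_mem (inv_mem hl) hk)
      (inv_mem (inv_mem hl))) (by rw [orderOf_conj']; exact hko) u hu
    have h2 : (l⁻¹ * k * l⁻¹⁻¹) * u = u * (l⁻¹ * k * l⁻¹⁻¹) := h1.eq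
    rw [inv_inv] at h2
    calc k * (l * u * l⁻¹) = l * ((l⁻¹ * k * l) * u) * l⁻¹ := by group
      _ = l * (u * (l⁻¹ * k * l)) * l⁻¹ := by rw [h2]
      _ = l * u * l⁻¹ * k := by group
  have claimA : ∀ Q' : Subgroup G, Q' ≤ Q → (∀ l ∈ L, ∀ v ∈ Q', l * v * l⁻¹ ∈ Q') →
      Q' ≤ U ∨ Q' = Q := by
    intro Q' h1 h2
    by_cases hbad : Bad Q'
    · exact Or.inr (le_antisymm h1 (hmin hbad h1))
    · left
      intro v hv
      refine ⟨h1 hv, ?_⟩
      change v ∈ centralizer M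
      rw [mem_centralizer_iff]
      rintro k ⟨hk, hko⟩
      by_contra hkv
      exact hbad ⟨h1.trans hQR, h2, k, hk, hko, v, hv, hkv⟩
  have hQU : ¬ Q ≤ U := fun h => hk₁v (hUM k₁ hk₁L hk₁o v₁ (h hv₁))
  have hQ1 : Q ≠ ⊥ := by
    rintro h
    apply hQU
    rw [h]; exact bot_le
  -- commutators
  have hcU : ⁅Q, Q⁆ ≤ U := by
    have hlt := commutator_lt_self hQp hQ1
    rcases claimA ⁅Q, Q⁆ hlt.le (by
      intro l hl v hv
      have h1 : Q.map (MulAut.conj l).toMonoidHom ≤ Q := by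
        rintro _ ⟨w, hw, rfl⟩
        exact hQL l hl w hw
      have h2 : (⁅Q, Q⁆).map (MulAut.conj l).toMonoidHom ≤ ⁅Q, Q⁆ := by
        rw [map_commutator]
        exact commutator_mono h1 h1
      exact h2 ⟨v, hv, rfl⟩) with h | h
    · exact h
    · exact absurd h hlt.ne
  have hcomm : ∀ v ∈ Q, ∀ w ∈ Q, v * w * v⁻¹ * w⁻¹ ∈ U := by
    intro v hv w hw
    exact hcU (commutator_mem_commutator hv hw)
  have hstab : ∀ k ∈ L, (orderOf k).Coprime p → ∀ v ∈ Q, k * v * k⁻¹ * v⁻¹ ∈ U → Commute k v := by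
    intro k hk hko v hv h
    have h1 : ⁅v, k⁆ = (k * v * k⁻¹ * v⁻¹)⁻¹ := by rw [commutatorElement_def]; group
    have h2 : ⁅v, k⁆ ∈ U := by rw [h1]; exact U.inv_mem h
    exact (Lib.CoprimeStab.commute_of_commutator_commute (coprime_orderOf_card hQp hko) (hUQ h2)
      ((hUM k hk hko _ h2).symm)).symm
  -- `U` is central
  have hUc : ∀ u ∈ U, ∀ w ∈ Q, Commute u w := by
    have hUn : ∀ v ∈ Q, ∀ u ∈ U, v * u * v⁻¹ ∈ U := by
      intro v hv u hu
      have h1 := U.mul_mem (hcomm v hv u (hUQ hu)) hu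
      have e : v * u * v⁻¹ * u⁻¹ * u = v * u * v⁻¹ := by group
      rwa [e] at h1
    rcases claimA (Q ⊓ centralizer (U : Set G)) inf_le_left (by
      intro l hl v hv
      refine ⟨hQL l hl v hv.1, ?_⟩
      change l * v * l⁻¹ ∈ centralizer (U : Set G)
      rw [mem_centralizer_iff]
      intro u hu
      have h1 : l⁻¹ * u * l⁻¹⁻¹ ∈ U := hUL l⁻¹ (inv_mem hl) u hu
      have h2 := (mem_centralizer_iff.1 hv.2) _ h1
      rw [inv_inv] at h2
      calc u * (l * v * l⁻¹) = l * ((l⁻¹ * u * l) * v) * l⁻¹ := by group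
        _ = l * (v * (l⁻¹ * u * l)) * l⁻¹ := by rw [h2]
        _ = l * v * l⁻¹ * u := by group) with h | h
    · exfalso
      apply hk₁v
      refine hstab k₁ hk₁L hk₁o v₁ hv₁ ?_
      have h1 : v₁⁻¹ * (k₁ * v₁ * k₁⁻¹) ∈ U := by
        apply h
        refine ⟨Q.mul_mem (Q.inv_mem hv₁) (hQL k₁ hk₁L v₁ hv₁), ?_⟩
        change v₁⁻¹ * (k₁ * v₁ * k₁⁻¹) ∈ centralizer (U : Set G)
        rw [mem_centralizer_iff]
        intro u hu
        have h2 := hUn v₁ hv₁ u hu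
        have h3 : k₁ * (v₁ * u * v₁⁻¹) = (v₁ * u * v₁⁻¹) * k₁ := (hUM k₁ hk₁L hk₁o _ h2).eq
        have h4 : k₁ * u = u * k₁ := (hUM k₁ hk₁L hk₁o _ hu).eq
        have h5 : k₁⁻¹ * u = u * k₁⁻¹ := by
          rw [inv_mul_eq_iff_eq_mul, ← mul_assoc, h4, mul_inv_cancel_right]
        calc u * (v₁⁻¹ * (k₁ * v₁ * k₁⁻¹)) = v₁⁻¹ * ((v₁ * u * v₁⁻¹) * k₁) * v₁ * k₁⁻¹ := by group
          _ = v₁⁻¹ * (k₁ * (v₁ * u * v₁⁻¹)) * v₁ * k₁⁻¹ := by rw [h3]
          _ = v₁⁻¹ * k₁ * v₁ * (u * k₁⁻¹) := by group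
          _ = v₁⁻¹ * k₁ * v₁ * (k₁⁻¹ * u) := by rw [h5]
          _ = v₁⁻¹ * (k₁ * v₁ * k₁⁻¹) * u := by group
      have h6 := hUn v₁ hv₁ _ h1
      have e : v₁ * (v₁⁻¹ * (k₁ * v₁ * k₁⁻¹)) * v₁⁻¹ = k₁ * v₁ * k₁⁻¹ * v₁⁻¹ := by group
      rwa [e] at h6
    · intro u hu w hw
      have h1 : w ∈ Q ⊓ centralizer (U : Set G) := by rw [h]; exact hw
      exact (mem_centralizer_iff.1 h1.2) u hu
  -- the quotient `V = Q / U`
  have hnormal : (U.subgroupOf Q).Normal := by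
    constructor
    intro n hn g
    have h1 : (n : G) * g = g * n := (hUc n hn g g.2).eq
    have h2 : g * n * g⁻¹ = n := by
      apply Subtype.ext
      change (g : G) * n * (g : G)⁻¹ = n
      rw [← h1, mul_inv_cancel_right]
    rw [h2]; exact hn
  have hLQ : L ≤ normalizer (Q : Set G) := by
    intro l hl
    rw [Lib.GoldschmidtFusion.mem_normalizer_iff_map_conj]
    apply Lib.GoldschmidtFusion.map_conj_le_of_le_normalizer
    rintro _ ⟨w, hw, rfl⟩
    exact hQL l hl w hw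
  let α : L →* MulAut Q := Q.normalizerMonoidHom.comp (Subgroup.inclusion hLQ)
  have hα : ∀ (k : L) (v : Q), ((α k v : Q) : G) = k * v * (k : G)⁻¹ := fun _ _ => rfl
  have hαN : ∀ k, ∀ x ∈ U.subgroupOf Q, α k x ∈ U.subgroupOf Q := by
    intro k x hx
    exact hUL k k.2 x hx
  let θ := quotientAction α (U.subgroupOf Q) hαN
  have hmk : ∀ v w : Q, ((v : Q ⧸ U.subgroupOf Q) = w ↔ (v : G)⁻¹ * w ∈ U) := by
    intro v w
    rw [QuotientGroup.eq]; rfl
  have hθ : ∀ (k : L) (v : Q), θ k (v : Q ⧸ U.subgroupOf Q) = ((α k v : Q) : Q ⧸ U.subgroupOf Q) :=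
    fun k v => quotientAction_mk α _ hαN k v
  have hVcomm : ∀ x y : Q ⧸ U.subgroupOf Q, x * y = y * x := by
    intro x y
    obtain ⟨v, rfl⟩ := QuotientGroup.mk_surjective x
    obtain ⟨w, rfl⟩ := QuotientGroup.mk_surjective y
    rw [← QuotientGroup.mk_mul, ← QuotientGroup.mk_mul, hmk]
    change ((v : G) * w)⁻¹ * (w * v) ∈ U
    have h1 := hcomm (w : G)⁻¹ (Q.inv_mem w.2) (v : G)⁻¹ (Q.inv_mem v.2)
    have e : (w : G)⁻¹ * (v : G)⁻¹ * (w : G)⁻¹⁻¹ * (v : G)⁻¹⁻¹ = ((v : G) * w)⁻¹ * (w * v) := by group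
    rwa [e] at h1
  have hquadθ : ∀ (c : G) (hc : c ∈ L),
      (∀ v ∈ R, ∃ e ∈ D, c * (v⁻¹ * (c * v * c⁻¹)) * c⁻¹ = (v⁻¹ * (c * v * c⁻¹)) * e) →
      ∀ v, θ ⟨c, hc⟩ (v⁻¹ * θ ⟨c, hc⟩ v) = v⁻¹ * θ ⟨c, hc⟩ v := by
    intro c hc hq x
    obtain ⟨v, rfl⟩ := QuotientGroup.mk_surjective x
    rw [hθ, ← QuotientGroup.mk_inv, ← QuotientGroup.mk_mul, hθ, eq_comm, hmk]
    obtain ⟨e, he, hev⟩ := hq v (hQR v.2)
    have h1 : ((v⁻¹ * α ⟨c, hc⟩ v : Q) : G)⁻¹ * ((α ⟨c, hc⟩ (v⁻¹ * α ⟨c, hc⟩ v) : Q) : G) = e := by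
      rw [hα]
      change ((v : G)⁻¹ * (c * v * c⁻¹))⁻¹ * (c * ((v : G)⁻¹ * (c * v * c⁻¹)) * c⁻¹) = e
      rw [hev]; group
    have heQ : e ∈ Q := by rw [← h1]; exact Q.mul_mem (Q.inv_mem (SetLike.coe_mem _)) (SetLike.coe_mem _)
    rw [h1]
    refine ⟨heQ, ?_⟩
    change e ∈ centralizer M
    rw [mem_centralizer_iff]
    rintro k ⟨hk, hko⟩
    exact (hD k hk hko e he).eq
  have hcl : closure {(⟨a, haL⟩ : L), ⟨b, hbL⟩} = ⊤ := by
    have h1 := closure_closure_coe_preimage (k := ({a, b} : Set G))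
    rw [← h1]
    congr 1
    ext x
    simp only [Set.mem_insert_iff, Set.mem_singleton_iff, Set.mem_preimage]
    constructor
    · rintro (rfl | rfl) <;> simp
    · rintro (h | h)
      · left; exact Subtype.ext h
      · right; exact Subtype.ext h
  have hp2 : p ≠ 2 := hp
  have hVp : IsPGroup p (Q ⧸ U.subgroupOf Q) := hQp.to_quotient _
  obtain ⟨L₁, φ, ι, hφs, hιi, hι⟩ := Cfsg.Agent.H26.NatSub.exists_nat (p := p) hp2 hVp hVcomm θ ⟨a, haL⟩ ⟨b, hbL⟩ hcl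
    (hquadθ a haL hqa) (hquadθ b hbL hqb) (by
      intro N hN
      rcases claimA ((N.comap (QuotientGroup.mk' (U.subgroupOf Q))).map Q.subtype)
        (map_subtype_le _) (by
          rintro l hl _ ⟨v, hv, rfl⟩
          refine ⟨α ⟨l, hl⟩ v, ?_, rfl⟩
          have h1 := hN ⟨l, hl⟩ _ hv
          rw [QuotientGroup.coe_mk', hθ] at h1
          exact h1) with h | h
      · left
        rw [eq_bot_iff]
        intro x hx
        obtain ⟨v, rfl⟩ := QuotientGroup.mk_surjective x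
        have h1 : (v : G) ∈ U := h ⟨v, hx, rfl⟩
        rw [mem_bot]
        exact (QuotientGroup.eq_one_iff v).2 h1
      · right
        rw [eq_top_iff]
        intro x _
        obtain ⟨v, rfl⟩ := QuotientGroup.mk_surjective x
        have h1 : (v : G) ∈ (N.comap (QuotientGroup.mk' (U.subgroupOf Q))).map Q.subtype := by
          rw [h]; exact v.2
        obtain ⟨w, hw, hwv⟩ := h1
        have : w = v := Subtype.ext hwv
        rw [← this]; exact hw) ⟨⟨k₁, hk₁L⟩, ((⟨v₁, hv₁⟩ : Q) : Q ⧸ U.subgroupOf Q), by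
      intro h
      apply hk₁v
      apply hstab k₁ hk₁L hk₁o v₁ hv₁
      rw [hθ, eq_comm, hmk] at h
      have h1 : v₁⁻¹ * (k₁ * v₁ * k₁⁻¹) ∈ U := h
      have h2 := hUc _ h1 v₁ hv₁
      have e : k₁ * v₁ * k₁⁻¹ * v₁⁻¹ = v₁ * (v₁⁻¹ * (k₁ * v₁ * k₁⁻¹)) * v₁⁻¹ := by group
      rw [e, ← h2.eq, mul_inv_cancel_right]
      exact h1⟩
  -- the subgroups `W` and `K` of `G`
  set W : Subgroup G := (ι.range.comap (QuotientGroup.mk' (U.subgroupOf Q))).map Q.subtype with hW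
  have hWQ : W ≤ Q := map_subtype_le _
  have hWι : ∀ w : W, ∃ y, ι y = ((⟨w, hWQ w.2⟩ : Q) : Q ⧸ U.subgroupOf Q) := by
    rintro ⟨w, v, ⟨y, hy⟩, hvw⟩
    refine ⟨y, ?_⟩
    rw [hy]
    have : v = ⟨w, hWQ ⟨v, ⟨y, hy⟩, hvw⟩⟩ := Subtype.ext hvw
    rw [← this]; rfl
  choose f₀ hf₀ using hWι
  let f : W →* Multiplicative (Fin 2 → ZMod p) :=
    { toFun := f₀
      map_one' := by
        apply hιi
        rw [hf₀, map_one]
        exact QuotientGroup.mk_one _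
      map_mul' := by
        intro v w
        apply hιi
        rw [hf₀, map_mul, hf₀, hf₀, ← QuotientGroup.mk_mul]
        rfl }
  have hf : ∀ w : W, ι (f w) = ((⟨w, hWQ w.2⟩ : Q) : Q ⧸ U.subgroupOf Q) := hf₀
  let K : Subgroup G := L₁.map L.subtype
  let ε : L₁ ≃* K := L₁.equivMapOfInjective L.subtype L.subtype_injective
  have hε : ∀ k : K, (((ε.symm k : L₁) : L) : G) = k := by
    intro k
    have h1 : ε (ε.symm k) = k := ε.apply_symm_apply k
    exact congrArg Subtype.val h1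
  have hKL : K ≤ L := map_subtype_le _
  refine final_odd (G := G) (W := W) (U := U) (K := K) hp hst (hQp.to_le hWQ) ?_ ?_
    (φ.comp ε.symm.toMonoidHom) (hφs.comp ε.symm.surjective) ?_ f ?_ ?_ ?_
  · intro u hu
    refine ⟨⟨u, hUQ hu⟩, ⟨1, ?_⟩, rfl⟩
    rw [map_one]
    exact ((QuotientGroup.eq_one_iff (⟨u, hUQ hu⟩ : Q)).2 hu).symm
  · intro u hu w hw
    exact hUc u hu w (hWQ hw)
  · intro k hk hko u hu
    exact hUM k (hKL hk) hko u hu
  · intro y
    obtain ⟨v, hv⟩ := QuotientGroup.mk_surjective (ι y)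
    refine ⟨⟨v, v, ⟨y, hv.symm⟩, rfl⟩, ?_⟩
    apply hιi
    rw [hf]
    exact hv
  · intro w hw
    have h1 := hf w
    rw [hw, map_one, eq_comm, QuotientGroup.eq_one_iff] at h1
    exact h1
  · intro k w
    have h1 : (k : G) * w * (k : G)⁻¹ ∈ W := by
      obtain ⟨l, hl⟩ : ∃ l : L₁, ε.symm k = l := ⟨_, rfl⟩
      refine ⟨α (ε.symm k : L₁) ⟨w, hWQ w.2⟩, ⟨Multiplicative.ofAdd (mat (φ (ε.symm k)) *ᵥ
        Multiplicative.toAdd (f w)), ?_⟩, ?_⟩
      · rw [← hι, ofAdd_toAdd, hf, hθ]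
        rfl
      · change ((α (ε.symm k : L₁) ⟨w, hWQ w.2⟩ : Q) : G) = _
        rw [hα, hε]
    refine ⟨h1, ?_⟩
    apply hιi
    rw [hf]
    change _ = ι (Multiplicative.ofAdd (mat (φ (ε.symm k)) *ᵥ Multiplicative.toAdd (f w)))
    rw [← hι, ofAdd_toAdd, hf, hθ]
    congr 1
    apply Subtype.ext
    rw [hα, hε]

end Core

section Stab

variable {G : Type*} [Group G] {p : ℕ}

/-- Quotients by a normal `p`-subgroup centralised by the `p'`-elements. -/
theorem nstab_of_pgroup {H : Type*} [Group H] [Finite G] [hpf : Fact p.Prime] (hp : p ≠ 2)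
    (hst : NStab p G) (f : G →* H)
    (hf : Function.Surjective f) (hk : IsPGroup p f.ker)
    (hc : ∀ x : G, (orderOf x).Coprime p → ∀ d ∈ f.ker, Commute x d) : NStab p H := by
  intro P' hP' a' ha' hq h' hh' k' hk'
  set R := P'.comap f with hR
  have hRp : IsPGroup p R := by
    rw [hR]
    exact hP'.comap_of_ker_isPGroup f hk
  have hN : (normalizer (P' : Set H)).comap f = normalizer (R : Set G) :=
    comap_normalizer_eq_of_surjective P' hf
  obtain ⟨a, rfl⟩ := hf a'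
  obtain ⟨h, rfl⟩ := hf h'
  have ha : a ∈ normalizer (R : Set G) := by rw [← hN]; exact ha'
  have hh : h ∈ normalizer (R : Set G) := by rw [← hN]; exact hh'
  have h1 : (closure ({a, h * a * h⁻¹} : Set G)).map f = closure ({f a, f h * f a * (f h)⁻¹} : Set H) := by
    rw [MonoidHom.map_closure, Set.image_pair, map_mul, map_mul, map_inv]
  rw [← h1] at hk'
  obtain ⟨k, hkc, rfl⟩ := hk'
  have key : ∀ c : G, Quad P' (f c) → ∀ v ∈ R, ∃ e ∈ f.ker,
      c * (v⁻¹ * (c * v * c⁻¹)) * c⁻¹ = (v⁻¹ * (c * v * c⁻¹)) * e := by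
    intro c hqc v hv
    refine ⟨(v⁻¹ * (c * v * c⁻¹))⁻¹ * (c * (v⁻¹ * (c * v * c⁻¹)) * c⁻¹), ?_, by group⟩
    rw [MonoidHom.mem_ker]
    simp only [map_mul, map_inv]
    rw [inv_mul_eq_one]
    exact (hqc (f v) hv).symm
  obtain ⟨n, hn⟩ := core hp hst hRp ha (mul_mem (mul_mem hh ha) (inv_mem hh))
    (D := f.ker) (fun x _ hx d hd => hc x hx d hd) (key a hq) (key (h * a * h⁻¹) (by
      rw [map_mul, map_mul, map_inv]
      exact hq.conj hh')) k hkc
  refine ⟨n, ?_⟩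
  rw [← map_pow, mem_centralizer_iff]
  intro w hw
  obtain ⟨v, rfl⟩ := hf w
  rw [← map_mul, ← map_mul, (mem_centralizer_iff.1 hn) v hw]

end Stab

/-- **Control of strong fusion**: for `p` odd and `G` normalizer-`p`-stable, `N_G(Z(J(P)))` controls the strong fusion
of subgroups of `P`. -/
theorem ctrl {p : ℕ} [hpf : Fact p.Prime] (hp : p ≠ 2) :
    ∀ (n : ℕ) (G : Type*) [Group G] [Finite G], Nat.card G ≤ n → NStab p G → Ctrl p G := by
  intro n
  induction n with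
  | zero =>
    intro G _ _ hn _
    exact absurd hn (by have : 0 < Nat.card G := Nat.card_pos; omega)
  | succ n ih =>
    intro G _ _ hn hst
    have hp2 : p ≠ 2 := hp
    have IH : ∀ H : Subgroup G, H ≠ ⊤ → Ctrl p H := by
      intro H hH
      refine ih H ?_ (hst.subgroup H)
      have h1 : Nat.card H < Nat.card G := by
        have h2 := ConjFunctor.card_lt_card_of_lt (lt_top_iff_ne_top.2 hH)
        rwa [Subgroup.card_top] at h2
      omega
    by_cases hO : pCore p G = ⊥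
    · exact case_three hp2 hst IH hO
    intro P A g hA hg
    by_cases hCP : centralizer (pCore p G : Set G) ⊔ (P : Subgroup G) = ⊤
    · have hYn : (pCore p G).Normal := Lib.Cores.pCore_normal p
      have hYp : IsPGroup p (pCore p G) := Lib.Cores.pCore_isPGroup p
      have hq : Ctrl p (G ⧸ pCore p G) := by
        have hker : (QuotientGroup.mk' (pCore p G)).ker = pCore p G := QuotientGroup.ker_mk' _
        refine ih _ ?_ (nstab_of_pgroup hp hst (QuotientGroup.mk' (pCore p G))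
          (QuotientGroup.mk'_surjective _) (by rw [hker]; exact hYp) ?_)
        · have h1 : Nat.card (pCore p G) * Nat.card (G ⧸ pCore p G) = Nat.card G := by
            rw [mul_comm]
            exact (Subgroup.card_eq_card_quotient_mul_card_subgroup _).symm
          have h2 : 1 < Nat.card (pCore p G) := by
            rw [Subgroup.one_lt_card_iff_ne_bot]; exact hO
          have h3 : 0 < Nat.card (G ⧸ pCore p G) := Nat.card_pos
          nlinarith
        · intro x hx d hd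
          rw [hker] at hd
          have hxc := mem_centralizer_of_coprime P hCP x hx
          exact ((mem_centralizer_iff.1 hxc) d hd).symm
      exact case_one hq IH P hCP hA hg
    · exact case_two hp2 hst IH P hCP hA hg


end Cfsg.Agent.H789.PStabOdd
end

-- part: H789/StableCore
section
/-!
# `Z(J(P))` is normal in the fusion system of a normalizer-`p`-stable group, `p` odd (helper789)
-/

set_option autoImplicit false

namespace Cfsg.Agent.H789.StableCore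

open Subgroup Cfsg
open Cfsg.Agent.PLocal
open Cfsg.Agent.Walter.GlaubermanFusion (Good Ctrl map_conj_le_iff)

variable {G : Type*} [Group G]

/-- Control of strong fusion by `N_G(Z)` makes `Z` normal in the fusion system. -/
theorem isNormal_of_good {P Z : Subgroup G} (hZ : Z ≤ P)
    (h : ∀ (A : Subgroup G) (g : G), A ≤ P → A.map (MulAut.conj g).toMonoidHom ≤ P →
      Good (normalizer (Z : Set G)) A g) : (groupFusionSystem P).IsNormal Z := by
  refine ⟨hZ, ?_⟩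
  rintro A φ ⟨hAP, hφP, g, hg⟩
  obtain ⟨n, hn, c, hc, rfl⟩ := h A g hAP (by
    rintro _ ⟨a, ha, rfl⟩
    have h1 := hφP ⟨a, ha⟩
    rw [hg] at h1
    exact h1)
  have hnA : ∀ x : A, n * (x : G) * n⁻¹ = φ x := by
    intro x
    rw [hg]
    have h1 := (mem_centralizer_iff.1 hc) x x.2
    have e : n * c * (x : G) * (n * c)⁻¹ = n * (c * x) * c⁻¹ * n⁻¹ := by group
    rw [e, ← h1]
    group
  have hnZ : ∀ x ∈ Z, n * x * n⁻¹ ∈ Z := fun x hx => (mem_normalizer_iff.1 hn x).1 hx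
  have hmem : ∀ x ∈ A ⊔ Z, n * x * n⁻¹ ∈ P := by
    intro x hx
    have h1 : (A ⊔ Z).map (MulAut.conj n).toMonoidHom ≤ P := by
      rw [Subgroup.map_sup, sup_le_iff]
      refine ⟨?_, ?_⟩
      · rintro _ ⟨a, ha, rfl⟩
        change n * a * n⁻¹ ∈ P
        rw [hnA ⟨a, ha⟩]
        exact hφP _
      · rintro _ ⟨a, ha, rfl⟩
        exact hZ (hnZ a ha)
    exact h1 ⟨x, hx, rfl⟩
  refine ⟨conjHom (A ⊔ Z) n, ⟨sup_le hAP hZ, fun x => hmem x x.2, n, fun x => rfl⟩, fun x => ?_, ?_⟩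
  · exact hnA x
  · apply le_antisymm
    · rintro _ ⟨x, hx, rfl⟩
      exact hnZ x hx
    · intro x hx
      have h1 : n⁻¹ * x * n ∈ Z := by
        have h2 := (mem_normalizer_iff.1 ((normalizer (Z : Set G)).inv_mem hn) x).1 hx
        rwa [inv_inv] at h2
      refine ⟨⟨n⁻¹ * x * n, le_sup_right (a := A) h1⟩, h1, ?_⟩
      change n * (n⁻¹ * x * n) * n⁻¹ = x
      group

theorem isNormal_ZJ {p : ℕ} [Fact p.Prime] (hp : p ≠ 2) [Finite G] (hst : IsNormalizerPStable p G)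
    (P : Sylow p G) : (groupFusionSystem (P : Subgroup G)).IsNormal (centerThompsonAOf (P : Subgroup G)) :=
  isNormal_of_good (ThompsonJA.centerThompsonAOf_le _) fun A g hA hg =>
    PStabOdd.ctrl hp (Nat.card G) G le_rfl (Cfsg.Agent.H26.PStab.NStab.of_prelude hst) P A g hA hg

end Cfsg.Agent.H789.StableCore
end
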